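import Groth.Agent.L16.AffineBC.OverBase

/-!
# Sections of the pullback along a base change of an affine base
-/

set_option autoImplicit false
set_option linter.style.haveILetI false
set_option backward.isDefEq.respectTransparency false
set_option backward.isDefEq.respectTransparency.types false

universe u

open CategoryTheory CategoryTheory.Limits AlgebraicGeometry TopologicalSpace Opposite
open scoped TensorProduct

noncomputable section

namespace Groth.L24.GalPush

open Groth.L18.Frame (rs ro pull)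
open Groth.L16.AffineBC (scal isBaseChange_pull)

variable {A B : Type u} [CommRing A] [CommRing B] (φ : A →+* B) {X Y : Scheme.{u}}
  [X.Over (Spec (CommRingCat.of A))] [Y.Over (Spec (CommRingCat.of B))] (g : Y ⟶ X)
  (sq : IsPullback g (Y ↘ Spec (CommRingCat.of B)) (X ↘ Spec (CommRingCat.of A))
    (Spec.map (CommRingCat.ofHom φ)))

include sq in
theorem isPushout_sq {U : X.Opens} (hU : IsAffineOpen U) :
    IsPushout (CommRingCat.ofHom (scal A X U)) (CommRingCat.ofHom φ)
      (g.app U) (CommRingCat.ofHom (scal B Y (g ⁻¹ᵁ U))) := by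
  let U' := g ⁻¹ᵁ U
  haveI : IsAffine U.toScheme := hU
  have hpb : IsPullback (g ∣_ U) (U'.ι ≫ (Y ↘ Spec (CommRingCat.of B)))
      (U.ι ≫ (X ↘ Spec (CommRingCat.of A))) (Spec.map (CommRingCat.ofHom φ)) :=
    (isPullback_morphismRestrict g U).paste_vert sq
  refine (isPushout_appTop_of_isPullback hpb).of_iso (Scheme.ΓSpecIso (CommRingCat.of A)) U.topIso
    (Scheme.ΓSpecIso (CommRingCat.of B)) U'.topIso ?_ ?_ ?_ ?_
  · symm
    rw [← Iso.eq_inv_comp, Scheme.Hom.comp_appTop, Scheme.Opens.ι_appTop, Scheme.Opens.topIso_hom,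
      Category.assoc]
    erw [← Functor.map_comp]
    rfl
  · exact Scheme.ΓSpecIso_naturality (CommRingCat.ofHom φ)
  · rw [Scheme.Hom.appTop, morphismRestrict_app', Scheme.Hom.app_eq_appLE, Scheme.Opens.topIso_hom,
      Scheme.Opens.topIso_hom]
    exact (Scheme.Hom.appLE_map g _ _).trans (Scheme.Hom.map_appLE g _ _).symm
  · symm
    rw [← Iso.eq_inv_comp, Scheme.Hom.comp_appTop, Scheme.Opens.ι_appTop, Scheme.Opens.topIso_hom,
      Category.assoc]
    erw [← Functor.map_comp]
    rfl

include sq in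
theorem isAffineHom_sq : IsAffineHom g :=
  MorphismProperty.of_isPullback (P := @IsAffineHom) sq.flip inferInstance

include sq in
/-- Sections of the pullback over an affine open are the extension of scalars, through the unit. -/
theorem exists_equiv_sq [Algebra A B] (hφ : φ = algebraMap A B) (F : X.Modules) [Coh.IsQCoh F] {U : X.Opens} (hU : IsAffineOpen U) :
    letI := Module.compHom Γ(F, U) (scal A X U)
    ∃ E : B ⊗[A] Γ(F, U) ≃+ Γ((Scheme.Modules.pullback g).obj F, g ⁻¹ᵁ U),
      ∀ (b : B) (m : Γ(F, U)), E (b ⊗ₜ m) = scal B Y (g ⁻¹ᵁ U) b • pull g F U m := by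
  subst hφ
  letI : Module A Γ(F, U) := Module.compHom Γ(F, U) (scal A X U)
  haveI := isAffineHom_sq (algebraMap A B) g sq
  let U' := g ⁻¹ᵁ U
  let P := (Scheme.Modules.pullback g).obj F
  letI : Algebra A Γ(X, U) := (scal A X U).toAlgebra
  letI : Algebra B Γ(Y, U') := (scal B Y U').toAlgebra
  letI : Algebra Γ(X, U) Γ(Y, U') := (g.appLE U U' le_rfl).hom.toAlgebra
  letI : Algebra A Γ(Y, U') := ((scal B Y U').comp (algebraMap A B)).toAlgebra
  haveI : IsScalarTower A B Γ(Y, U') := IsScalarTower.of_algebraMap_eq fun _ => rfl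
  have hpo := isPushout_sq (algebraMap A B) g sq hU
  haveI : IsScalarTower A Γ(X, U) Γ(Y, U') := IsScalarTower.of_algebraMap_eq fun a => by
    show scal B Y U' (algebraMap A B a) = g.appLE U U' le_rfl (scal A X U a)
    rw [← Scheme.Hom.app_eq_appLE]
    exact (ConcreteCategory.congr_hom hpo.w a).symm
  haveI : IsScalarTower A Γ(X, U) Γ(F, U) := IsScalarTower.of_algebraMap_smul fun _ _ => rfl
  haveI : Algebra.IsPushout A B Γ(X, U) Γ(Y, U') := by
    refine CommRingCat.isPushout_iff_isPushout.1 ?_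
    have : CommRingCat.ofHom (algebraMap Γ(X, U) Γ(Y, U')) = g.app U := g.app_eq_appLE.symm
    rw [this]
    exact hpo.flip
  letI : Module Γ(X, U) Γ(P, U') := Module.compHom Γ(P, U') (g.appLE U U' le_rfl).hom
  haveI : IsScalarTower Γ(X, U) Γ(Y, U') Γ(P, U') := IsScalarTower.of_algebraMap_smul fun _ _ => rfl
  have hbc := isBaseChange_pull g F hU (hU.preimage g) (le_rfl : U' ≤ g ⁻¹ᵁ U)
  let E : B ⊗[A] Γ(F, U) ≃+ Γ(P, U') :=
    (Algebra.IsPushout.cancelBaseChange A B Γ(X, U) Γ(Y, U') Γ(F, U)).symm.toAddEquiv.trans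
      hbc.equiv.toAddEquiv
  refine ⟨E, fun b m => ?_⟩
  show hbc.equiv ((Algebra.IsPushout.cancelBaseChange A B Γ(X, U) Γ(Y, U') Γ(F, U)).symm (b ⊗ₜ m)) = _
  rw [Algebra.IsPushout.cancelBaseChange_symm_tmul, IsBaseChange.equiv_tmul]
  show algebraMap B Γ(Y, U') b • rs P le_rfl (pull g F U m) = _
  rw [Groth.L18.Frame.rs_self]
  rfl

end Groth.L24.GalPush
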