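import Groth.Agent.L20.PnPic.Over
import Groth.Agent.L16.ProjSpace.AmpleIff
import Groth.Agent.L18.PBundle.TwistPow
import Groth.Agent.L18.AmplePull
import Groth.Agent.S10962

/-!
# Isomorphisms of projective spaces preserve the twisting sheaves
-/

set_option autoImplicit false
set_option linter.style.haveILetI false
set_option backward.isDefEq.respectTransparency false
set_option backward.isDefEq.respectTransparency.types false

universe u

open CategoryTheory CategoryTheory.Limits AlgebraicGeometry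
open Groth.L16

noncomputable section

namespace Groth.L24.GalPush

/-- A morphism pulling `O(1)` back to `O(c)` pulls `O(d)` back to `O(c d)`. -/
theorem nonempty_pullback_twist_mul {R R' : Type u} [CommRing R] [CommRing R'] {m n : ℕ}
    (j : CohB1.ProjSpace m R' ⟶ CohB1.ProjSpace n R) (c : ℤ)
    (h1 : Nonempty ((Scheme.Modules.pullback j).obj (Twist.twistProjSpace n R 1) ≅ Twist.twistProjSpace m R' c)) (d : ℤ) :
    Nonempty ((Scheme.Modules.pullback j).obj (Twist.twistProjSpace n R d) ≅ Twist.twistProjSpace m R' (c * d)) := by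
  have hinv : ∀ d, PicF.IsInvertibleCl (PicF.pullCl j (PicF.cl (Twist.twistProjSpace n R d))) := fun d =>
    PicLoc.isInvertibleCl_pullCl _ ⟨_, rfl, ProjTwist.isInvertible_twistProjSpace n R d⟩
  have hinv' : ∀ d, PicF.IsInvertibleCl (PicF.cl (Twist.twistProjSpace m R' d)) := fun d =>
    ⟨_, rfl, ProjTwist.isInvertible_twistProjSpace m R' d⟩
  have h : ∀ a b : ℤ, PicGrp.mulCl (PicF.pullCl j (PicF.cl (Twist.twistProjSpace n R a)))
      (PicF.pullCl j (PicF.cl (Twist.twistProjSpace n R b))) =
      PicF.pullCl j (PicF.cl (Twist.twistProjSpace n R (a + b))) := fun a b => by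
    rw [← Groth.Agent.AbDualLib.pullCl_mulCl, Groth.L20.PnPic.cl_twist_add]
  have hz : PicF.pullCl j (PicF.cl (Twist.twistProjSpace n R 0)) = PicF.cl (Twist.twistProjSpace m R' 0) := by
    rw [Groth.L20.PnPic.cl_twist_zero, Groth.L20.PnPic.cl_twist_zero, Groth.Agent.AbDualLib.pullCl_oneCl]
  have hone : PicF.pullCl j (PicF.cl (Twist.twistProjSpace n R 1)) = PicF.cl (Twist.twistProjSpace m R' c) :=
    (PicGrp.cl_eq_cl_iff _ _).2 h1
  have key : PicF.pullCl j (PicF.cl (Twist.twistProjSpace n R d)) = PicF.cl (Twist.twistProjSpace m R' (c * d)) := by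
    induction d with
    | zero => rw [mul_zero]; exact hz
    | succ i ih => rw [← h, ih, hone, Groth.L20.PnPic.cl_twist_add, mul_add, mul_one]
    | pred i ih =>
      refine Groth.Agent.AbDualLib.mulCl_right_cancel (hinv _) (hinv' _) (hinv' c) ?_
      rw [Groth.L20.PnPic.cl_twist_add, ← hone, h, sub_add_cancel, mul_sub, mul_one, sub_add_cancel]
      exact ih
  exact (PicGrp.cl_eq_cl_iff _ _).1 key

/-- Base change of projective space respects the twists. -/
theorem nonempty_pullback_map {R R' : Type u} [CommRing R] [CommRing R'] (n : ℕ) (φ : R →+* R') (d : ℤ) :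
    Nonempty ((Scheme.Modules.pullback (ProjSpace.map n φ)).obj (Twist.twistProjSpace n R d) ≅
      Twist.twistProjSpace n R' d) := by
  have h := nonempty_pullback_twist_mul (ProjSpace.map n φ) 1 (ProjSpace.nonempty_pullback_twist_iso n φ 1) d
  rwa [one_mul] at h

/-- An isomorphism of projective spaces over a field respects the twists. -/
theorem nonempty_pullback_iso {K : Type u} [Field K] {n : ℕ} (a : CohB1.ProjSpace n K ≅ CohB1.ProjSpace n K) (d : ℤ) :
    Nonempty ((Scheme.Modules.pullback a.hom).obj (Twist.twistProjSpace n K d) ≅ Twist.twistProjSpace n K d) := by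
  rcases Nat.eq_zero_or_pos n with rfl | hn
  · haveI := ProjSpace.isIso_toSpec_zero (R := K)
    let e := Scheme.homeoOfIso (asIso (CohB1.ProjSpace.toSpec 0 K))
    haveI : Subsingleton ↥(Spec (CommRingCat.of K)) := inferInstanceAs (Subsingleton (PrimeSpectrum K))
    haveI : Nonempty ↥(Spec (CommRingCat.of K)) := inferInstanceAs (Nonempty (PrimeSpectrum K))
    haveI : Subsingleton ↥(CohB1.ProjSpace 0 K) := e.injective.subsingleton
    haveI : Nonempty ↥(CohB1.ProjSpace 0 K) := e.surjective.nonempty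
    have htriv : ∀ {L : (CohB1.ProjSpace 0 K).Modules}, PicF.IsInvertible L →
        Nonempty (L ≅ Coh.structureModule (CohB1.ProjSpace 0 K)) := fun {L} hL => by
      obtain ⟨W, e, hyW, he⟩ := Groth.L18.Frame.exists_frame hL (Classical.arbitrary _)
      obtain rfl : W = ⊤ := eq_top_iff.2 fun z _ => Subsingleton.elim (Classical.arbitrary _) z ▸ hyW
      exact Groth.L18.PBundle.nonempty_iso_unit he
    obtain ⟨e1⟩ := htriv (Groth.L18.Ample.isInvertible_pullback a.hom (ProjTwist.isInvertible_twistProjSpace 0 K d))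
    obtain ⟨e2⟩ := htriv (ProjTwist.isInvertible_twistProjSpace 0 K d)
    exact ⟨e1 ≪≫ e2.symm⟩
  have hc : ∀ b : CohB1.ProjSpace n K ≅ CohB1.ProjSpace n K, ∃ c : ℤ, 0 < c ∧
      Nonempty ((Scheme.Modules.pullback b.hom).obj (Twist.twistProjSpace n K 1) ≅ Twist.twistProjSpace n K c) := by
    intro b
    obtain ⟨c, ⟨e⟩⟩ := Groth.L20.PnPic.exists_iso_twist ((Scheme.Modules.pullback b.hom).obj (Twist.twistProjSpace n K 1))
      (Groth.L18.Ample.isInvertible_pullback b.hom (ProjTwist.isInvertible_twistProjSpace n K 1))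
    refine ⟨c, (Groth.Agent.S10962.result K n hn c).1 (Groth.L18.Ample.isAmple_of_iso e ?_), ⟨e⟩⟩
    exact (Groth.L18.Ample.isAmple_pullback_iso_iff b).2 ((Groth.Agent.S10962.result K n hn 1).2 one_pos)
  obtain ⟨c, hc0, h⟩ := hc a
  obtain ⟨c', hc0', h'⟩ := hc a.symm
  obtain ⟨e⟩ := h
  obtain ⟨e'⟩ := nonempty_pullback_twist_mul a.inv c' h' c
  have hcc : c' * c = 1 := Groth.L20.PnPic.twist_iso_inj hn ⟨e'.symm ≪≫ (Scheme.Modules.pullback a.inv).mapIso e.symm ≪≫
    (Scheme.Modules.pullbackComp a.inv a.hom).app _ ≪≫ (Scheme.Modules.pullbackCongr a.inv_hom_id).app _ ≪≫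
    (Scheme.Modules.pullbackId _).app _⟩
  have hc1 : c = 1 := by nlinarith
  have h2 := nonempty_pullback_twist_mul a.hom c ⟨e⟩ d
  rwa [hc1, one_mul] at h2

end Groth.L24.GalPush
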