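import Mathlib.LinearAlgebra.Matrix.NonsingularInverse
import Mathlib.RingTheory.AlgebraTower
import Mathlib.LinearAlgebra.LinearIndependent.Lemmas
import Mathlib.LinearAlgebra.TensorProduct.Basis
import Mathlib.LinearAlgebra.FreeModule.Basic

/-!
# A module over a split algebra after base change
-/

set_option autoImplicit false

universe u

open scoped TensorProduct

namespace Groth.L24.GalPush

variable {k K₀ K : Type u} [Field k] [Field K₀] [Field K] [Algebra k K₀] [Algebra k K]

/-- The conjugates of a basis of a field extension form an invertible matrix. -/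
theorem exists_inverse_conj {d : ℕ} (a : Module.Basis (Fin d) k K₀) (σ : Fin d → (K₀ →ₐ[k] K))
    (hσ : Function.Injective σ) :
    ∃ C : Matrix (Fin d) (Fin d) K, (Matrix.of fun i l => σ i (a l)) * C = 1 ∧
      C * (Matrix.of fun i l => σ i (a l)) = 1 := by
  classical
  let S : Matrix (Fin d) (Fin d) K := Matrix.of fun i l => σ i (a l)
  have hli : LinearIndependent K fun i => (σ i).toLinearMap :=
    (linearIndependent_algHom_toLinearMap k K₀ K).comp σ hσ
  have hS : IsUnit S := by
    refine Matrix.linearIndependent_rows_iff_isUnit.1 ?_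
    rw [Fintype.linearIndependent_iff] at hli ⊢
    intro g hg
    refine hli g (a.ext fun l => ?_)
    have h := congrFun hg l
    simpa [S, Finset.sum_apply, Matrix.row] using h
  exact ⟨↑hS.unit⁻¹, hS.mul_val_inv, hS.val_inv_mul⟩

/-- Base change of a module over a split extension is the product over the embeddings: injectivity and
surjectivity in coordinates. -/
theorem bijective_split {d : ℕ} (a : Module.Basis (Fin d) k K₀) (σ : Fin d → (K₀ →ₐ[k] K))
    (hσ : Function.Injective σ) (M : Type u) [AddCommGroup M] [Module K₀ M] [Module k M] [IsScalarTower k K₀ M]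
    (P : Fin d → Type u) [∀ i, AddCommGroup (P i)] [∀ i, Module K (P i)]
    (ι : ∀ i, M →+ P i) (hι : ∀ i (c : K₀) (m : M), ι i (c • m) = σ i c • ι i m)
    (hgen : ∀ i (p : P i), p ∈ Submodule.span K (Set.range (ι i)))
    (hfree : ∀ i (β : Type u) (b : Module.Basis β K₀ M), LinearIndependent K fun j => ι i (b j))
    (Φ : K ⊗[k] M →+ (∀ i, P i)) (hΦ : ∀ i c m, Φ (c ⊗ₜ m) i = c • ι i m) : Function.Bijective Φ := by
  classical
  obtain ⟨C, hSC, hCS⟩ := exists_inverse_conj a σ hσ
  refine ⟨(injective_iff_map_eq_zero Φ).2 fun z hz => ?_, fun y => ?_⟩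
  · let b := Module.Free.chooseBasis K₀ M
    let bk := a.smulTower b
    let f := TensorProduct.equivFinsuppOfBasisRight (M := K) bk z
    have hz' : z = f.sum fun p c => c ⊗ₜ[k] bk p :=
      ((TensorProduct.equivFinsuppOfBasisRight (M := K) bk).symm_apply_apply z).symm.trans
        (TensorProduct.equivFinsuppOfBasisRight_symm_apply bk f)
    suffices hf : f = 0 by rw [hz', hf, Finsupp.sum_zero_index]
    have hi : ∀ (i : Fin d) (j : Module.Free.ChooseBasisIndex K₀ M),
        ∑ l, f (l, j) * σ i (a l) = 0 := by
      intro i
      let s := f.support.image Prod.snd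
      have hs : f.support ⊆ Finset.univ ×ˢ s := fun p hp =>
        Finset.mem_product.2 ⟨Finset.mem_univ _, Finset.mem_image_of_mem _ hp⟩
      have hzero : ∑ j ∈ s, (∑ l, f (l, j) * σ i (a l)) • ι i (b j) = 0 := by
        have hzi : Φ z i = 0 := congrFun hz i
        rw [← hzi, hz', Finsupp.sum_of_support_subset f hs (fun p c => c ⊗ₜ[k] bk p) (fun _ _ => TensorProduct.zero_tmul _ _),
          map_sum, Finset.sum_apply, Finset.sum_product, Finset.sum_comm]
        refine Finset.sum_congr rfl fun j _ => ?_
        rw [Finset.sum_smul]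
        refine Finset.sum_congr rfl fun l _ => ?_
        rw [hΦ, Module.Basis.smulTower_apply, hι, smul_smul]
      intro j
      by_cases hj : j ∈ s
      · exact linearIndependent_iff'.1 (hfree i _ b) s _ hzero j hj
      · refine Finset.sum_eq_zero fun l _ => ?_
        rw [Finsupp.notMem_support_iff.1 fun h => hj (Finset.mem_image_of_mem Prod.snd h), zero_mul]
    ext ⟨l, j⟩
    calc f (l, j) = ∑ l', (C * Matrix.of fun i l => σ i (a l)) l l' * f (l', j) := by
          rw [hCS]; simp [Matrix.one_apply]
      _ = ∑ i, C l i * ∑ l', f (l', j) * σ i (a l') := by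
          simp only [Matrix.mul_apply, Matrix.of_apply, Finset.sum_mul, Finset.mul_sum]
          rw [Finset.sum_comm]
          exact Finset.sum_congr rfl fun i _ => Finset.sum_congr rfl fun l' _ => by ring
      _ = 0 := by simp [hi]
  · suffices h : ∀ i (p : P i), Pi.single i p ∈ Φ.range by
      rw [← Finset.univ_sum_single y]
      exact AddSubgroup.sum_mem _ fun i _ => h i (y i)
    intro i p
    suffices h : ∀ c : K, Pi.single i (c • p) ∈ Φ.range by simpa using h 1
    induction hgen i p using Submodule.span_induction with
    | mem p hp =>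
      obtain ⟨m, rfl⟩ := hp
      intro c
      refine ⟨∑ l, (c * C l i) ⊗ₜ (a l • m), funext fun i' => ?_⟩
      rw [map_sum, Finset.sum_apply]
      simp only [hΦ, hι, smul_smul, ← Finset.sum_smul]
      have hC : ∑ l, c * C l i * σ i' (a l) = c * ((Matrix.of fun i l => σ i (a l)) * C) i' i := by
        simp only [Matrix.mul_apply, Matrix.of_apply, Finset.mul_sum]
        exact Finset.sum_congr rfl fun l _ => by ring
      rw [hC, hSC]
      by_cases h : i' = i
      · subst h; simp
      · simp [h]
    | zero => intro c; rw [smul_zero, Pi.single_zero]; exact zero_mem _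
    | add p q _ _ hp hq => intro c; rw [smul_add, Pi.single_add]; exact add_mem (hp c) (hq c)
    | smul e p _ hp => intro c; rw [smul_smul]; exact hp _

end Groth.L24.GalPush
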