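import Groth.Agent.L24.GalPush.Main
import Groth.Agent.L24.GalPush.AutTwist
import Groth.Agent.L24.KrullSchmidt.TensorTypes
import Groth.Agent.L19.LocFreeDescent
import Groth.Agent.L08.Cube.Inverse
import Groth.Agent.L16.ProjSpace.Sections
import Groth.Prelude.Def_BrSev
import Mathlib.FieldTheory.PrimitiveElement

/-!
# Twisting sheaves are types of bundles on split Severi–Brauer varieties
-/

set_option autoImplicit false
set_option linter.style.haveILetI false
set_option backward.isDefEq.respectTransparency false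
set_option backward.isDefEq.respectTransparency.types false

universe u

open CategoryTheory CategoryTheory.Limits AlgebraicGeometry

noncomputable section

namespace Groth.L24.GalPush

variable {k : Type u} [Field k] {X : Scheme.{u}} (f : X ⟶ Spec (CommRingCat.of k))

/-- Twists along two splittings compatible with an embedding agree. -/
theorem nonempty_twist_iso {n : ℕ} {K₀ K : Type u} [Field K₀] [Field K] [Algebra k K₀] [Algebra k K]
    (e₀ : BrSev.Splitting f K₀ n) (e : BrSev.Splitting f K n) (σ : K₀ →ₐ[k] K)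
    (t : BrSev.bc f K ⟶ BrSev.bc f K₀)
    (sqt : IsPullback t (BrSev.bcTo f K) (BrSev.bcTo f K₀) (Spec.map (CommRingCat.ofHom σ.toRingHom))) (j : ℤ) :
    Nonempty ((Scheme.Modules.pullback t).obj (e₀.twist j) ≅ e.twist j) := by
  have sq1 : IsPullback (t ≫ e₀.iso.hom) (BrSev.bcTo f K) (CohB1.ProjSpace.toSpec n K₀)
      (Spec.map (CommRingCat.ofHom σ.toRingHom)) :=
    sqt.of_iso (Iso.refl _) e₀.iso (Iso.refl _) (Iso.refl _) (by simp) (by simp) (by simp [e₀.comm]) (by simp)
  let b := sq1.isoIsPullback _ _ (Groth.L16.ProjSpace.isPullback_map n σ.toRingHom)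
  have hb : b.hom ≫ Groth.L16.ProjSpace.map n σ.toRingHom = t ≫ e₀.iso.hom := IsPullback.isoIsPullback_hom_fst _ _ _ _
  have hb' : e.iso.hom ≫ (e.iso.symm ≪≫ b).hom = b.hom := by simp
  obtain ⟨u⟩ := nonempty_pullback_map n σ.toRingHom j
  obtain ⟨v⟩ := nonempty_pullback_iso (e.iso.symm ≪≫ b) j
  exact ⟨(Scheme.Modules.pullbackComp t e₀.iso.hom).app _ ≪≫ (Scheme.Modules.pullbackCongr hb.symm).app _ ≪≫
    ((Scheme.Modules.pullbackComp b.hom (Groth.L16.ProjSpace.map n σ.toRingHom)).app _).symm ≪≫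
    (Scheme.Modules.pullback b.hom).mapIso u ≪≫ (Scheme.Modules.pullbackCongr hb'.symm).app _ ≪≫
    ((Scheme.Modules.pullbackComp e.iso.hom (e.iso.symm ≪≫ b).hom).app _).symm ≪≫
    (Scheme.Modules.pullback e.iso.hom).mapIso v⟩

theorem bijective_toGlobal_bc {n : ℕ} {K : Type u} [Field K] [Algebra k K] (e : BrSev.Splitting f K n) :
    Function.Bijective (Coh.toGlobal (BrSev.bcTo f K)) := by
  have h2 := ((ConcreteCategory.isIso_iff_bijective e.iso.hom.appTop).1 (inferInstanceAs (IsIso (e.iso.hom.app ⊤)))).comp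
    (Groth.L16.ProjSpace.toGlobal_bijective (n := n) (R := K))
  rw [← e.comm]
  exact h2

theorem isInvertible_twist {n : ℕ} {K : Type u} [Field K] [Algebra k K] (e : BrSev.Splitting f K n) (j : ℤ) :
    PicF.IsInvertible (e.twist j) :=
  Groth.L18.Ample.isInvertible_pullback e.iso.hom (Groth.L16.ProjTwist.isInvertible_twistProjSpace n K j)

theorem indec_twist {n : ℕ} {K : Type u} [Field K] [Algebra k K] (e : BrSev.Splitting f K n) (j : ℤ) :
    Groth.L24.KrullSchmidt.Indec (e.twist j) := by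
  letI : (BrSev.bc f K).Over (Spec (CommRingCat.of K)) := ⟨BrSev.bcTo f K⟩
  obtain ⟨L', -, ⟨t⟩⟩ := Groth.L08.Cube.exists_inverse (isInvertible_twist f e j)
  exact Groth.L24.KrullSchmidt.indec_of_invertible (bijective_toGlobal_bc f e) t

/-- Every twist is the type of an indecomposable bundle, given a separable splitting field. -/
theorem exists_indec_twPow [IsProper f] {n : ℕ} {K₀ K : Type u} [Field K₀] [Field K] [Algebra k K₀] [Algebra k K]
    [FiniteDimensional k K₀] [Algebra.IsSeparable k K₀] [IsAlgClosed K]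
    (e₀ : BrSev.Splitting f K₀ n) (e : BrSev.Splitting f K n) (j : ℤ) :
    ∃ (W : X.Modules) (r : ℕ), FlatMod.IsFinLocFree W ∧ Groth.L24.KrullSchmidt.Indec W ∧ 0 < r ∧
      BrSev.IsTwPow e j r W := by
  classical
  letI : X.Over (Spec (CommRingCat.of k)) := ⟨f⟩
  haveI : IsProper (X ↘ Spec (CommRingCat.of k)) := ‹IsProper f›
  letI : (BrSev.bc f K).Over (Spec (CommRingCat.of K)) := ⟨BrSev.bcTo f K⟩
  letI : (BrSev.bc f K₀).Over (Spec (CommRingCat.of K₀)) := ⟨BrSev.bcTo f K₀⟩
  have sq : IsPullback (BrSev.proj f K) (BrSev.bc f K ↘ Spec (CommRingCat.of K))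
      (X ↘ Spec (CommRingCat.of k)) (Spec.map (CommRingCat.ofHom (algebraMap k K))) :=
    IsPullback.of_hasPullback f (Spec.map (CommRingCat.ofHom (algebraMap k K)))
  have sq₀ : IsPullback (BrSev.proj f K₀) (BrSev.bc f K₀ ↘ Spec (CommRingCat.of K₀))
      (X ↘ Spec (CommRingCat.of k)) (Spec.map (CommRingCat.ofHom (algebraMap k K₀))) :=
    IsPullback.of_hasPullback f (Spec.map (CommRingCat.ofHom (algebraMap k K₀)))
  haveI : IsProper (BrSev.bc f K ↘ Spec (CommRingCat.of K)) :=
    MorphismProperty.of_isPullback (P := @IsProper) sq inferInstance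
  haveI : Flat (BrSev.proj f K) := MorphismProperty.of_isPullback (P := @Flat) sq.flip (Groth.L03.ShStab.BC.flat_specMap K)
  haveI : Surjective (BrSev.proj f K) :=
    MorphismProperty.of_isPullback (P := @Surjective) sq.flip (Groth.L03.ShStab.BC.surjective_specMap K)
  haveI := isAffineHom_sq (algebraMap k K) (BrSev.proj f K) sq
  haveI : IsLocallyNoetherian (BrSev.bc f K) :=
    LocallyOfFiniteType.isLocallyNoetherian (BrSev.bc f K ↘ Spec (CommRingCat.of K))
  have hcard : Fintype.card (K₀ →ₐ[k] K) = Module.finrank k K₀ := AlgHom.card k K₀ K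
  let σ : Fin (Module.finrank k K₀) → (K₀ →ₐ[k] K) := fun i =>
    (Fintype.equivFinOfCardEq hcard).symm i
  have hspec : ∀ τ : K₀ →ₐ[k] K, Spec.map (CommRingCat.ofHom τ.toRingHom) ≫
      Spec.map (CommRingCat.ofHom (algebraMap k K₀)) = Spec.map (CommRingCat.ofHom (algebraMap k K)) := fun τ => by
    rw [← Spec.map_comp, ← CommRingCat.ofHom_comp]
    congr 2
    exact τ.comp_algebraMap
  let t : ∀ i, BrSev.bc f K ⟶ BrSev.bc f K₀ := fun i => pullback.lift (BrSev.proj f K)
    (BrSev.bcTo f K ≫ Spec.map (CommRingCat.ofHom (σ i).toRingHom))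
    (by rw [Category.assoc, hspec]; exact pullback.condition)
  have ht : ∀ i, t i ≫ BrSev.proj f K₀ = BrSev.proj f K := fun i => pullback.lift_fst _ _ _
  have sqt : ∀ i, IsPullback (t i) (BrSev.bc f K ↘ Spec (CommRingCat.of K)) (BrSev.bc f K₀ ↘ Spec (CommRingCat.of K₀))
      (Spec.map (CommRingCat.ofHom (σ i).toRingHom)) := fun i =>
    IsPullback.of_right (by rw [ht i, hspec]; exact sq) (pullback.lift_snd _ _ _) sq₀
  let L₀ := e₀.twist j
  obtain ⟨c⟩ := nonempty_pullback_push (BrSev.proj f K₀) sq₀ (BrSev.proj f K) sq (Module.finBasis k K₀) σ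
    (Fintype.equivFinOfCardEq hcard).symm.injective t ht sqt L₀ (isInvertible_twist f e₀ j)
  let N := fun i => (Scheme.Modules.pullback (t i)).obj L₀
  let c' : (Scheme.Modules.pullback (BrSev.proj f K)).obj ((Scheme.Modules.pushforward (BrSev.proj f K₀)).obj L₀) ≅
      ∐ fun _ : Fin (Module.finrank k K₀) => e.twist j :=
    c ≪≫ Limits.Sigma.mapIso fun i => (nonempty_twist_iso f e₀ e (σ i) (t i) (sqt i) j).some
  have hLf := Groth.L16.Existence.isFinLocFree_of_isInvertible (isInvertible_twist f e j)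
  haveI := isAffineHom_sq (algebraMap k K₀) (BrSev.proj f K₀) sq₀
  let W₀ := (Scheme.Modules.pushforward (BrSev.proj f K₀)).obj L₀
  haveI : Coh.IsQCoh W₀ := Groth.L18.DirImg.isQCoh_push (BrSev.proj f K₀) L₀
    (Groth.L29.DC.PCQCoh.isQCoh_of_isFinLocFree
      (Groth.L16.Existence.isFinLocFree_of_isInvertible (isInvertible_twist f e₀ j)))
  have hW₀ : FlatMod.IsFinLocFree W₀ := Groth.L19.PullChart.isFinLocFree_of_pullback (BrSev.proj f K) W₀
    (Groth.L29.LocFree.of_iso c'.symm (Groth.L29.DC.isFinLocFree_coprod_fin _ _ fun _ => hLf))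
  have hW0 : ¬ IsZero W₀ := fun h => (indec_twist f e j).1 (by
    obtain ⟨s, q, hsq⟩ := Groth.L24.KrullSchmidt.isRetract_member
      (fun _ : Fin (Module.finrank k K₀) => e.twist j) ⟨0, Module.finrank_pos⟩
    have h' := (IsZero.iff_id_eq_zero _).1 (((Scheme.Modules.pullback (BrSev.proj f K)).map_isZero h).of_iso c'.symm)
    refine (IsZero.iff_id_eq_zero _).2 ?_
    rw [← hsq, ← Category.comp_id s, h', Limits.comp_zero, Limits.zero_comp])
  obtain ⟨W, r, hW, hWi, ⟨w⟩⟩ := Groth.L24.KrullSchmidt.exists_indec_type k K (BrSev.proj f K)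
    (indec_twist f e j) hLf hW₀ hW0 c'
  refine ⟨W, r, hW, hWi, Nat.pos_of_ne_zero fun hr => hWi.1 ?_, ⟨w⟩⟩
  subst hr
  exact Groth.L03.ShStab.BC.isZero_of_pullback (BrSev.proj f K)
    (((IsZero.iff_id_eq_zero _).2 (Sigma.hom_ext _ _ fun i => i.elim0)).of_iso w)

end Groth.L24.GalPush
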