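import Groth.Agent.L24.GalPush.Alg
import Groth.Agent.L24.GalPush.Sections
import Groth.Agent.L07.StalkBijective
import Groth.Agent.L18.DirImg
import Groth.Agent.L29.DCoh.PCQCoh
import Groth.Agent.L29.LocFree
import Groth.Agent.L29.DCoh.TensorPerfect
import Groth.Agent.L16.NegPow.Gen

/-!
# The pullback of a pushforward along a split field extension is the sum over the embeddings
-/

set_option autoImplicit false
set_option linter.style.haveILetI false
set_option backward.isDefEq.respectTransparency false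
set_option backward.isDefEq.respectTransparency.types false

universe u

open CategoryTheory CategoryTheory.Limits AlgebraicGeometry TopologicalSpace Opposite
open scoped TensorProduct
open Groth.L18.Frame (rs ro pull rs_self rs_smul ro_ro)
open Groth.L16.AffineBC (scal)

noncomputable section

namespace Groth.L24.GalPush

/-- The comparison of a pushforward pulled back with the pullback along a lift. -/
theorem exists_comp_hom {X X₀ Y : Scheme.{u}} (π₀ : X₀ ⟶ X) (t : Y ⟶ X₀) (π : Y ⟶ X) (h : t ≫ π₀ = π)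
    (L₀ : X₀.Modules) :
    ∃ c : (Scheme.Modules.pullback π).obj ((Scheme.Modules.pushforward π₀).obj L₀) ⟶
        (Scheme.Modules.pullback t).obj L₀,
      ∀ (U : X.Opens) (m : Γ(L₀, π₀ ⁻¹ᵁ U)) (hle : π ⁻¹ᵁ U ≤ t ⁻¹ᵁ (π₀ ⁻¹ᵁ U)),
        c.app (π ⁻¹ᵁ U) (pull π ((Scheme.Modules.pushforward π₀).obj L₀) U m) =
          rs ((Scheme.Modules.pullback t).obj L₀) hle (pull t L₀ (π₀ ⁻¹ᵁ U) m) := by
  subst h
  let ψ : (Scheme.Modules.pushforward π₀).obj L₀ ⟶
      (Scheme.Modules.pushforward (t ≫ π₀)).obj ((Scheme.Modules.pullback t).obj L₀) :=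
    (Scheme.Modules.pushforward π₀).map ((Scheme.Modules.pullbackPushforwardAdjunction t).unit.app L₀) ≫
      (Scheme.Modules.pushforwardComp t π₀).hom.app ((Scheme.Modules.pullback t).obj L₀)
  let adj := Scheme.Modules.pullbackPushforwardAdjunction (t ≫ π₀)
  refine ⟨(adj.homEquiv _ _).symm ψ, fun U m hle => ?_⟩
  have h1 : adj.unit.app _ ≫ (Scheme.Modules.pushforward (t ≫ π₀)).map ((adj.homEquiv _ _).symm ψ) = ψ := by
    exact (adj.homEquiv_unit _ _ _).symm.trans (Equiv.apply_symm_apply _ _)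
  have h2 := congr($(congrArg (fun q => Scheme.Modules.Hom.app q U) h1) m)
  refine Eq.trans ?_ (h2.trans ?_)
  · rfl
  · exact (rs_self ((Scheme.Modules.pullback t).obj L₀) _ _).symm

theorem ro_scal (A : Type u) [CommRing A] (Y : Scheme.{u}) [Y.Over (Spec (CommRingCat.of A))]
    {U V : Y.Opens} (h : V ≤ U) (a : A) : ro h (scal A Y U a) = scal A Y V a := by
  show (Y.presheaf.map (homOfLE (le_top : U ≤ ⊤)).op ≫ Y.presheaf.map (homOfLE h).op) _ = _
  rw [← Functor.map_comp]
  rfl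

/-- Sections of a pullback along a base change of fields: generated by and free on pulled back sections. -/
theorem span_free_pull {A B : Type u} [Field A] [Field B] (φ : A →+* B) {X Y : Scheme.{u}}
    [X.Over (Spec (CommRingCat.of A))] [Y.Over (Spec (CommRingCat.of B))] (g : Y ⟶ X)
    (sq : IsPullback g (Y ↘ Spec (CommRingCat.of B)) (X ↘ Spec (CommRingCat.of A))
      (Spec.map (CommRingCat.ofHom φ)))
    (F : X.Modules) [Coh.IsQCoh F] {U : X.Opens} (hU : IsAffineOpen U) (W : Y.Opens) (hW : W = g ⁻¹ᵁ U) :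
    letI := Module.compHom Γ((Scheme.Modules.pullback g).obj F, W) (scal B Y W)
    letI := Module.compHom Γ(F, U) (scal A X U)
    (∀ (a : A) (m : Γ(F, U)), rs ((Scheme.Modules.pullback g).obj F) hW.le (pull g F U (a • m)) =
      φ a • rs ((Scheme.Modules.pullback g).obj F) hW.le (pull g F U m)) ∧
    (∀ p : Γ((Scheme.Modules.pullback g).obj F, W),
      p ∈ Submodule.span B (Set.range fun m : Γ(F, U) => rs ((Scheme.Modules.pullback g).obj F) hW.le (pull g F U m))) ∧
    ∀ (β : Type u) (b : Module.Basis β A Γ(F, U)),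
      LinearIndependent B fun j => rs ((Scheme.Modules.pullback g).obj F) hW.le (pull g F U (b j)) := by
  subst hW
  letI := φ.toAlgebra
  letI iP : Module B Γ((Scheme.Modules.pullback g).obj F, g ⁻¹ᵁ U) :=
    Module.compHom Γ((Scheme.Modules.pullback g).obj F, g ⁻¹ᵁ U) (scal B Y (g ⁻¹ᵁ U))
  letI : Module A Γ(F, U) := Module.compHom Γ(F, U) (scal A X U)
  obtain ⟨E, hE⟩ := exists_equiv_sq φ g sq rfl F hU
  have hE' : ∀ (b : B) (m : Γ(F, U)), E (b ⊗ₜ m) = b • pull g F U m := hE
  have hlin : ∀ (b : B) (z : B ⊗[A] Γ(F, U)), E (b • z) = b • E z := fun b z => by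
    induction z using TensorProduct.induction_on with
    | zero => simp
    | tmul c m => rw [TensorProduct.smul_tmul', hE', hE', smul_smul, smul_eq_mul]
    | add x y hx hy => simp only [smul_add, map_add, hx, hy]
  let Eₗ : B ⊗[A] Γ(F, U) ≃ₗ[B] Γ((Scheme.Modules.pullback g).obj F, g ⁻¹ᵁ U) := { E with map_smul' := hlin }
  simp only [rs_self]
  refine ⟨fun a m => ?_, fun p => ?_, fun β b => ?_⟩
  · have h1 : φ a ⊗ₜ[A] m = (1 : B) ⊗ₜ[A] (a • m) := by
      rw [← TensorProduct.smul_tmul, Algebra.smul_def, mul_one]; rfl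
    have h2 := congrArg E h1
    rw [hE', hE', one_smul] at h2
    exact h2.symm
  · obtain ⟨z, rfl⟩ := E.surjective p
    induction z using TensorProduct.induction_on with
    | zero => rw [map_zero]; exact zero_mem _
    | tmul c m => rw [hE']; exact Submodule.smul_mem _ _ (Submodule.subset_span ⟨m, rfl⟩)
    | add x y hx hy => rw [map_add]; exact add_mem hx hy
  · have h := ((b.baseChange B).map Eₗ).linearIndependent
    have e : (fun j => pull g F U (b j)) = ⇑((b.baseChange B).map Eₗ) := funext fun j => by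
      rw [Module.Basis.map_apply, Module.Basis.baseChange_apply]
      exact ((hE' 1 (b j)).trans (one_smul B _)).symm
    rw [e]
    exact h

variable {k K₀ K : Type u} [Field k] [Field K₀] [Field K] [Algebra k K₀] [Algebra k K] {X X₀ Y : Scheme.{u}}
  [X.Over (Spec (CommRingCat.of k))] [X₀.Over (Spec (CommRingCat.of K₀))] [Y.Over (Spec (CommRingCat.of K))]
  (π₀ : X₀ ⟶ X) (sq₀ : IsPullback π₀ (X₀ ↘ Spec (CommRingCat.of K₀)) (X ↘ Spec (CommRingCat.of k))
    (Spec.map (CommRingCat.ofHom (algebraMap k K₀))))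
  (π : Y ⟶ X) (sq : IsPullback π (Y ↘ Spec (CommRingCat.of K)) (X ↘ Spec (CommRingCat.of k))
    (Spec.map (CommRingCat.ofHom (algebraMap k K))))
  {d : ℕ} (a : Module.Basis (Fin d) k K₀) (σ : Fin d → (K₀ →ₐ[k] K)) (hσ : Function.Injective σ)
  (t : Fin d → (Y ⟶ X₀)) (ht : ∀ i, t i ≫ π₀ = π)
  (sqt : ∀ i, IsPullback (t i) (Y ↘ Spec (CommRingCat.of K)) (X₀ ↘ Spec (CommRingCat.of K₀))
    (Spec.map (CommRingCat.ofHom (σ i).toRingHom)))

include sq₀ sq a hσ ht sqt in
/-- The pullback of the pushforward of an invertible module is the sum of its conjugates. -/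
theorem nonempty_pullback_push [IsLocallyNoetherian Y] (L₀ : X₀.Modules) (hL₀ : PicF.IsInvertible L₀) :
    Nonempty ((Scheme.Modules.pullback π).obj ((Scheme.Modules.pushforward π₀).obj L₀) ≅
      ∐ fun i => (Scheme.Modules.pullback (t i)).obj L₀) := by
  classical
  have hLf := Groth.L16.Existence.isFinLocFree_of_isInvertible hL₀
  haveI : Coh.IsQCoh L₀ := Groth.L29.DC.PCQCoh.isQCoh_of_isFinLocFree hLf
  haveI := isAffineHom_sq (algebraMap k K₀) π₀ sq₀
  haveI := isAffineHom_sq (algebraMap k K) π sq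
  let W₀ := (Scheme.Modules.pushforward π₀).obj L₀
  haveI : Coh.IsQCoh W₀ := Groth.L18.DirImg.isQCoh_push π₀ L₀ ‹_›
  haveI : Coh.IsQCoh ((Scheme.Modules.pullback π).obj W₀) := Groth.L16.AffineBC.isQCoh_pullback π W₀
  let N : Fin d → Y.Modules := fun i => (Scheme.Modules.pullback (t i)).obj L₀
  haveI : Coh.IsQCoh (∐ N) := (Groth.L16.NegPow.isCoh_of_isFinLocFree
    (Groth.L29.DC.isFinLocFree_coprod_fin d N fun i => Groth.L29.LocFree.pullback (t i) hLf)).1
  choose c hc using fun i => exists_comp_hom π₀ (t i) π (ht i) L₀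
  let Φ : (Scheme.Modules.pullback π).obj W₀ ⟶ ∐ N := ∑ i, c i ≫ Sigma.ι N i
  suffices h : IsIso Φ by exact ⟨asIso Φ⟩
  refine Groth.L07.ModBij.isIso_of_affine_cover Φ fun y => ?_
  obtain ⟨_, ⟨U, hU, rfl⟩, hyU, -⟩ :=
    X.isBasis_affineOpens.exists_subset_of_mem_open (a := π y) (Set.mem_univ _) isOpen_univ
  change X.Opens at U
  replace hU : IsAffineOpen U := hU
  let V := π ⁻¹ᵁ U
  refine ⟨V, hU.preimage π, hyU, ?_⟩
  have hV : ∀ i, V = t i ⁻¹ᵁ (π₀ ⁻¹ᵁ U) := fun i => by
    show π ⁻¹ᵁ U = _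
    rw [← ht i]
    rfl
  -- the linear structures
  letI : Module k Γ(W₀, U) := Module.compHom Γ(W₀, U) (scal k X U)
  letI : Module K₀ Γ(W₀, U) := Module.compHom Γ(L₀, π₀ ⁻¹ᵁ U) (scal K₀ X₀ (π₀ ⁻¹ᵁ U))
  haveI : IsScalarTower k K₀ Γ(W₀, U) := IsScalarTower.of_algebraMap_smul fun r m => by
    show scal K₀ X₀ (π₀ ⁻¹ᵁ U) (algebraMap k K₀ r) • (show Γ(L₀, π₀ ⁻¹ᵁ U) from m) =
      π₀.app U (scal k X U r) • (show Γ(L₀, π₀ ⁻¹ᵁ U) from m)
    exact congrArg (· • (show Γ(L₀, π₀ ⁻¹ᵁ U) from m))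
      (ConcreteCategory.congr_hom (isPushout_sq (algebraMap k K₀) π₀ sq₀ hU).w r).symm
  letI : ∀ i, Module K Γ(N i, V) := fun i => Module.compHom Γ(N i, V) (scal K Y V)
  have hsf := fun i => span_free_pull (σ i).toRingHom (t i) (sqt i) L₀ (hU.preimage π₀) V (hV i)
  let ι : ∀ i, Γ(W₀, U) →+ Γ(N i, V) := fun i =>
    AddMonoidHom.mk' (fun m => rs (N i) (hV i).le (pull (t i) L₀ (π₀ ⁻¹ᵁ U) m)) fun m m' => by
      exact (congrArg (rs (N i) (hV i).le) (map_add (((Scheme.Modules.pullbackPushforwardAdjunction (t i)).unit.app L₀).app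
        (π₀ ⁻¹ᵁ U)).hom m m')).trans (map_add _ _ _)
  obtain ⟨E, hE⟩ := exists_equiv_sq (algebraMap k K) π sq rfl W₀ hU
  let Ψ : K ⊗[k] Γ(W₀, U) →+ (∀ i, Γ(N i, V)) :=
    AddMonoidHom.mk' (fun z i => (c i).app V (E z)) fun z z' => funext fun i => by
      simp only [map_add]
      rfl
  have hΨ : Function.Bijective Ψ := by
    refine bijective_split a σ hσ Γ(W₀, U) (fun i => Γ(N i, V)) ι (fun i r m => (hsf i).1 r m)
      (fun i p => (hsf i).2.1 p) (fun i β b => (hsf i).2.2 β b) Ψ fun i r m => ?_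
    show (c i).app V (E (r ⊗ₜ m)) = scal K Y V r • rs (N i) (hV i).le (pull (t i) L₀ (π₀ ⁻¹ᵁ U) m)
    rw [hE, Scheme.Modules.Hom.app_smul, hc i U m (hV i).le]
  have hbij : Function.Bijective fun (x : Γ((Scheme.Modules.pullback π).obj W₀, V)) i => (c i).app V x := by
    have : (fun (x : Γ((Scheme.Modules.pullback π).obj W₀, V)) i => (c i).app V x) = Ψ ∘ E.symm := by
      funext x i
      show _ = (c i).app V (E (E.symm x))
      rw [E.apply_symm_apply]
    rw [this]
    exact hΨ.comp E.symm.bijective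
  -- components of the sum
  let p : ∀ j, ∐ N ⟶ N j := fun j => Sigma.desc fun l => if h : l = j then eqToHom (by rw [h]) else 0
  have hp : ∀ l j, Sigma.ι N l ≫ p j = if h : l = j then eqToHom (by rw [h]) else 0 := fun l j => Sigma.ι_desc _ _
  have hsum : ∑ j, p j ≫ Sigma.ι N j = 𝟙 (∐ N) := Sigma.hom_ext _ _ fun l => by
    rw [Preadditive.comp_sum, Category.comp_id, Finset.sum_eq_single l]
    · simp [reassoc_of% (hp l l)]
    · intro j _ hj
      simp [reassoc_of% (hp l j), dif_neg (Ne.symm hj)]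
    · exact fun hl => absurd (Finset.mem_univ l) hl
  have hΦp : ∀ i, Φ ≫ p i = c i := fun i => by
    simp only [Φ, Preadditive.sum_comp, Category.assoc]
    rw [Finset.sum_eq_single i]
    · rw [hp, dif_pos rfl, eqToHom_refl, Category.comp_id]
    · intro l _ hl
      simp [hp, dif_neg hl]
    · simp
  have hcomp : ∀ x i, (p i).app V (Φ.app V x) = (c i).app V x := fun x i => by
    rw [← hΦp i]
    rfl
  have hrec : ∀ z : Γ(∐ N, V), z = ∑ j, (Sigma.ι N j).app V ((p j).app V z) := fun z => by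
    let ev : (∐ N ⟶ ∐ N) →+ Γ(∐ N, V) := AddMonoidHom.mk' (fun q => q.app V z) fun q q' => by
      simp only [Scheme.Modules.Hom.add_app]
      rfl
    have h := congrArg ev hsum
    rw [map_sum] at h
    exact h.symm
  refine ⟨fun x x' hxx => hbij.1 (funext fun i => ?_), fun z => ?_⟩
  · show (c i).app V x = (c i).app V x'
    rw [← hcomp, ← hcomp, hxx]
  · obtain ⟨x, hx⟩ := hbij.2 fun i => (p i).app V z
    refine ⟨x, ?_⟩
    rw [hrec z, hrec (Φ.app V x)]
    refine Finset.sum_congr rfl fun j _ => congrArg _ ?_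
    rw [hcomp]
    exact congrFun hx j

end Groth.L24.GalPush
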